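import Cfsg.Agent.H198.FC.DefsB
import Cfsg.Agent.H727.GW.Isom
set_option linter.all false

/-!
# S5764: the parts of the interface statements, and their combination  (helper786)

For every `StmtX` of `H198/FC/Defs.lean`, `DefsB.lean` that was split between several hands: the exact parts
(`StmtXOn P`, `P` a condition on the dimensions; suffix `U` / `S`: unitary / symplectic) and the combination theorem.
-/

set_option autoImplicit false

namespace Cfsg.Agent.H786.FC

open Cfsg.Agent.H198.FC

universe u v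

section general

variable {K : Type u} [Field K] {V : Type v} [AddCommGroup V] [Module K V]

/-- the degree of a subfield of `End_K(V)` divides `dim V` -/
theorem finrank_dvd [Module.Finite K V] (E : Subalgebra K (R K V)) (hE : IsField E) :
    Module.finrank K E ∣ Module.finrank K V := by
  letI : Field E := hE.toField
  haveI : IsScalarTower K E V := ⟨fun a X v => by
    change (a • (X : R K V)) v = a • ((X : R K V) v)
    rfl⟩
  haveI : Module.Finite K E := inferInstance
  haveI : Module.Finite E V := Module.Finite.of_restrictScalars_finite K E V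
  rw [← Module.finrank_mul_finrank K E V]
  exact Dvd.intro _ rfl

theorem not_isSp_of_isU {b : Cl K V} (h : b.IsU) : ¬ b.IsSp := fun h' => by
  obtain ⟨a, ha⟩ := h.1
  exact ha (h'.1 a)

theorem isU_or_isSp (b : Cl K V) : b.IsU ∨ b.IsSp := b.typ

end general

/-! ### linear -/

/-- `StmtC3` for the pairs `(n, e)`, `n = dim V`, `e = |E : K|`, with `P n e` -/
def StmtC3On (P : ℕ → ℕ → Prop) : Prop :=
  ∀ (K : Type u) [Field K] [Finite K] (V : Type v) [AddCommGroup V] [Module K V] [Module.Finite K V]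
    (S : Subgroup (Equiv.Perm (R K V))), S ≤ RA K V → (Module.finrank K V = 2 → S ≤ RP K V ∧ 4 ≤ Nat.card K) →
    Group.IsSolvable S →
    ∀ (E : Subalgebra K (R K V)), IsField E → (Module.finrank K E).Prime →
    (∀ f ∈ S, ∀ X ∈ E, f X ∈ E) → P (Module.finrank K V) (Module.finrank K E) → Five S

/-- 5360 (L-C3a): `n = e s`, `s ≥ 2`, `(n, e) ≠ (4, 2)` -/
abbrev StmtC3a : Prop := StmtC3On.{u, v} fun n e => 2 * e ≤ n ∧ ¬ (n = 4 ∧ e = 2)

/-- 5361 (L-C3b): `n = 4`, `e = 2` -/
abbrev StmtC3b : Prop := StmtC3On.{u, v} fun n e => n = 4 ∧ e = 2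

/-- 5362 (L-C3c): `n = e` -/
abbrev StmtC3c : Prop := StmtC3On.{u, v} fun n e => n = e

theorem stmtC3_of_parts (ha : StmtC3a.{u, v}) (hb : StmtC3b.{u, v}) (hc : StmtC3c.{u, v}) : StmtC3.{u, v} := by
  intro K _ _ V _ _ _ S hS h2 hsol E hE hEp hES
  obtain ⟨s, hs⟩ := finrank_dvd E hE
  by_cases h4 : Module.finrank K V = 4 ∧ Module.finrank K E = 2
  · exact hb K V S hS h2 hsol E hE hEp hES h4
  rcases Nat.lt_or_ge s 2 with h | h
  · have h1 : Module.finrank K V = Module.finrank K E ∨ Module.finrank K V = 0 := by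
      interval_cases s
      · right; simpa using hs
      · left; simpa using hs
    rcases h1 with h1 | h1
    · exact hc K V S hS h2 hsol E hE hEp hES h1
    · exfalso
      haveI : Subsingleton V := Module.finrank_zero_iff.1 h1
      haveI : Nontrivial E := hE.nontrivial
      haveI : Subsingleton (R K V) := ⟨fun f g => LinearMap.ext fun v => Subsingleton.elim _ _⟩
      obtain ⟨x, y, hxy⟩ := exists_pair_ne E
      exact hxy (Subtype.ext (Subsingleton.elim _ _))
  · refine ha K V S hS h2 hsol E hE hEp hES ⟨?_, h4⟩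
    rw [hs, mul_comm]
    exact Nat.mul_le_mul_left _ h

/-- `StmtC6` for the dimensions `n` with `P n` -/
def StmtC6On (P : ℕ → Prop) : Prop :=
  ∀ (K : Type u) [Field K] [Finite K] (V : Type v) [AddCommGroup V] [Module K V] [Module.Finite K V]
    (S : Subgroup (Equiv.Perm (R K V))), S ≤ RA K V → (Module.finrank K V = 2 → S ≤ RP K V ∧ 4 ≤ Nat.card K) →
    Group.IsSolvable S →
    ∀ (A : Subgroup (Equiv.Perm (R K V))) (r a : ℕ), C6Data S A r a → P (Module.finrank K V) → Five S

theorem prime_pow_cases {r a n : ℕ} (hr : r.Prime) (ha : 1 ≤ a) (hn : n = r ^ a) :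
    n = 2 ∨ n = 3 ∨ n = 4 ∨ n = 5 ∨ n = 8 ∨ (n = 7 ∨ 9 ≤ n) := by
  have h1 : 1 < n := by
    rw [hn]; exact Nat.one_lt_pow (by omega) hr.one_lt
  by_contra hcon
  have h6 : n = 6 := by omega
  rw [h6] at hn
  have h2 : (2 : ℕ) ∣ r ^ a := by rw [← hn]; norm_num
  have h3 : (3 : ℕ) ∣ r ^ a := by rw [← hn]; norm_num
  have h2' := (Nat.prime_dvd_prime_iff_eq Nat.prime_two hr).1 (Nat.prime_two.dvd_of_dvd_pow h2)
  have h3' := (Nat.prime_dvd_prime_iff_eq Nat.prime_three hr).1 (Nat.prime_three.dvd_of_dvd_pow h3)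
  omega

theorem stmtC6_of_parts (h2 : StmtC6On.{u, v} fun n => n = 2) (h3 : StmtC6On.{u, v} fun n => n = 3)
    (h4 : StmtC6On.{u, v} fun n => n = 4) (h58 : StmtC6On.{u, v} fun n => n = 5 ∨ n = 8)
    (hx : StmtC6On.{u, v} fun n => n = 7 ∨ 9 ≤ n) : StmtC6.{u, v} := by
  intro K _ _ V _ _ _ S hS hn2 hsol A r a hA
  rcases prime_pow_cases hA.1 hA.2.1 hA.2.2.1 with h | h | h | h | h | h
  · exact h2 K V S hS hn2 hsol A r a hA h
  · exact h3 K V S hS hn2 hsol A r a hA h
  · exact h4 K V S hS hn2 hsol A r a hA h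
  · exact h58 K V S hS hn2 hsol A r a hA (Or.inl h)
  · exact h58 K V S hS hn2 hsol A r a hA (Or.inr h)
  · exact hx K V S hS hn2 hsol A r a hA h

/-! ### unitary and symplectic -/

/-- the kind of a form: `true` unitary, `false` symplectic -/
def Kind {K : Type u} [Field K] {V : Type v} [AddCommGroup V] [Module K V] (c : Bool) (b : Cl K V) : Prop :=
  (c = true → b.IsU) ∧ (c = false → b.IsSp)

theorem exists_kind {K : Type u} [Field K] {V : Type v} [AddCommGroup V] [Module K V] (b : Cl K V) :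
    Kind true b ∨ Kind false b := by
  rcases b.typ with h | h
  · exact Or.inl ⟨fun _ => h, fun h' => absurd h' (by decide)⟩
  · exact Or.inr ⟨fun h' => absurd h' (by decide), fun _ => h⟩

/-- `StmtBPar` for the forms of kind `c` -/
def StmtBParK (c : Bool) : Prop :=
  ∀ (K : Type u) [Field K] [Finite K] (V : Type v) [AddCommGroup V] [Module K V] [Module.Finite K V] (b : Cl K V),
    Kind c b → b.Big → ∀ S : Subgroup (Equiv.Perm (R K V)), S ≤ RB b → Group.IsSolvable S →
    (∃ W : Submodule K V, W ≠ ⊥ ∧ b.TI W ∧ ∀ f ∈ S, Stb f W) → FiveB b S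

theorem stmtBPar_of (hU : StmtBParK.{u, v} true) (hS : StmtBParK.{u, v} false) : StmtBPar.{u, v} := by
  intro K _ _ V _ _ _ b hb S
  rcases exists_kind b with h | h
  · exact hU K V b h hb S
  · exact hS K V b h hb S

/-- `StmtBC1` for the forms of kind `c` -/
def StmtBC1K (c : Bool) : Prop :=
  ∀ (K : Type u) [Field K] [Finite K] (V : Type v) [AddCommGroup V] [Module K V] [Module.Finite K V] (b : Cl K V),
    Kind c b → b.Big → ∀ S : Subgroup (Equiv.Perm (R K V)), S ≤ RB b → Group.IsSolvable S →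
    (∀ W : Submodule K V, b.TI W → (∀ f ∈ S, Stb f W) → W = ⊥) →
    (∃ W : Submodule K V, W ≠ ⊥ ∧ W ≠ ⊤ ∧ b.ND W ∧ ∀ f ∈ S, Stb f W) → FiveB b S

theorem stmtBC1_of (hU : StmtBC1K.{u, v} true) (hS : StmtBC1K.{u, v} false) : StmtBC1.{u, v} := by
  intro K _ _ V _ _ _ b hb S
  rcases exists_kind b with h | h
  · exact hU K V b h hb S
  · exact hS K V b h hb S

/-- `StmtBC2` for the forms of kind `c` and blocks of dimension `d` with `P d` -/
def StmtBC2On (c : Bool) (P : ℕ → Prop) : Prop :=
  ∀ (K : Type u) [Field K] [Finite K] (V : Type v) [AddCommGroup V] [Module K V] [Module.Finite K V] (b : Cl K V),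
    Kind c b → b.Big → ∀ S : Subgroup (Equiv.Perm (R K V)), S ≤ RB b → Group.IsSolvable S →
    ∀ (k d : ℕ) (e : Fin k → R K V), P d → 2 ≤ k → 1 ≤ d → CompleteOrthogonalIdempotents e →
    (∀ i, b.Adj (e i) (e i)) → (∀ i, Module.finrank K (LinearMap.range (e i)) = d) →
    (∀ f ∈ S, ∃ π : Equiv.Perm (Fin k), ∀ i, f (e i) = e (π i)) → FiveB b S

/-- 5384, 5385 (unitary `d = 1`, `d ≥ 2`), 5386 (symplectic) -/
theorem stmtBC2_of (hU1 : StmtBC2On.{u, v} true fun d => d = 1) (hU2 : StmtBC2On.{u, v} true fun d => 2 ≤ d)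
    (hS : StmtBC2On.{u, v} false fun _ => True) : StmtBC2.{u, v} := by
  intro K _ _ V _ _ _ b hb S hS' hsol k d e hk hd he had hr hp
  rcases exists_kind b with h | h
  · rcases Nat.eq_or_lt_of_le hd with h1 | h1
    · exact hU1 K V b h hb S hS' hsol k d e h1.symm hk hd he had hr hp
    · exact hU2 K V b h hb S hS' hsol k d e h1 hk hd he had hr hp
  · exact hS K V b h hb S hS' hsol k d e trivial hk hd he had hr hp

/-- `StmtBC3` for the forms of kind `c` and the pairs `(n, e)` with `P n e`; `t = true`: the adjoint is non-trivial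
on `E`, `t = false`: it is trivial on `E` -/
def StmtBC3On (c t : Bool) (P : ℕ → ℕ → Prop) : Prop :=
  ∀ (K : Type u) [Field K] [Finite K] (V : Type v) [AddCommGroup V] [Module K V] [Module.Finite K V] (b : Cl K V),
    Kind c b → b.Big → ∀ S : Subgroup (Equiv.Perm (R K V)), S ≤ RB b → Group.IsSolvable S →
    ∀ (E : Subalgebra K (R K V)), P (Module.finrank K V) (Module.finrank K E) →
    ((t = true → ∃ X ∈ E, ¬ b.Adj X X) ∧ (t = false → ∀ X ∈ E, b.Adj X X)) →
    IsField E → (Module.finrank K E).Prime →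
    (∀ X ∈ E, ∃ Y ∈ E, b.Adj X Y) → (∀ f ∈ S, ∀ X ∈ E, f X ∈ E) → FiveB b S

/-- 5388 (unitary, `s ≥ 2`), 5389 (unitary, `n = e`), 5390 (symplectic, adjoint trivial on `E`), 5391 (symplectic,
adjoint non-trivial on `E`) -/
theorem stmtBC3_of (hU : StmtBC3On.{u, v} true true fun n e => 2 * e ≤ n)
    (hV : StmtBC3On.{u, v} true true fun n e => n = e) (hS : StmtBC3On.{u, v} false false fun _ _ => True)
    (hT : StmtBC3On.{u, v} false true fun _ _ => True) : StmtBC3.{u, v} := by
  intro K _ _ V _ _ _ b hb S hS' hsol E hE hEp had hES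
  obtain ⟨s, hs⟩ := finrank_dvd E hE
  rcases exists_kind b with h | h
  · have hn : 0 < Module.finrank K V := by
      rcases hb with h | h
      · omega
      · omega
    -- the scalars are not self-adjoint
    have hne : ∃ X ∈ E, ¬ b.Adj X X := by
      obtain ⟨a, ha⟩ := (h.1 rfl).1
      refine ⟨a • 1, E.smul_mem (one_mem E) a, fun hadj => ?_⟩
      haveI : Nontrivial V := Module.nontrivial_of_finrank_pos hn
      obtain ⟨v, hv⟩ := exists_ne (0 : V)
      have : ∃ w, b.B v w ≠ 0 := by
        by_contra hcon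
        push Not at hcon
        exact hv (b.nondeg v hcon)
      obtain ⟨w, hw⟩ := this
      have h1 := hadj v w
      change b.B (a • v) w = b.B v (a • w) at h1
      rw [b.smul_left, b.smul_right] at h1
      exact ha (mul_right_cancel₀ hw h1).symm
    rcases Nat.lt_or_ge s 2 with hs2 | hs2
    · have h1 : Module.finrank K V = Module.finrank K E := by
        interval_cases s
        · rw [hs, mul_zero] at hn; exact absurd hn (lt_irrefl _)
        · simpa using hs
      exact hV K V b h hb S hS' hsol E h1 ⟨fun _ => hne, fun h' => absurd h' (by decide)⟩ hE hEp had hES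
    · refine hU K V b h hb S hS' hsol E ?_ ⟨fun _ => hne, fun h' => absurd h' (by decide)⟩ hE hEp had hES
      show 2 * Module.finrank K E ≤ Module.finrank K V
      rw [hs, mul_comm]
      exact Nat.mul_le_mul_left _ hs2
  · by_cases hne : ∃ X ∈ E, ¬ b.Adj X X
    · exact hT K V b h hb S hS' hsol E trivial ⟨fun _ => hne, fun h' => absurd h' (by decide)⟩ hE hEp had hES
    · push Not at hne
      exact hS K V b h hb S hS' hsol E trivial ⟨fun h' => absurd h' (by decide), fun _ => hne⟩ hE hEp had hES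

/-- `StmtBC4` for the forms of kind `c` -/
def StmtBC4K (c : Bool) : Prop :=
  ∀ (K : Type u) [Field K] [Finite K] (V : Type v) [AddCommGroup V] [Module K V] [Module.Finite K V] (b : Cl K V),
    Kind c b → b.Big → ∀ S : Subgroup (Equiv.Perm (R K V)), S ≤ RB b → Group.IsSolvable S →
    ∀ (u' y : ℕ) (Φ : Matrix (Fin u' × Fin y) (Fin u' × Fin y) K ≃ₐ[K] R K V), 2 ≤ u' → 2 ≤ y →
    (∀ B : Matrix (Fin u') (Fin u') K, ∃ B' : Matrix (Fin u') (Fin u') K,
      b.Adj (Φ (Matrix.kroneckerMap (· * ·) B (1 : Matrix (Fin y) (Fin y) K)))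
        (Φ (Matrix.kroneckerMap (· * ·) B' (1 : Matrix (Fin y) (Fin y) K)))) →
    (∀ f ∈ S, ∀ B : Matrix (Fin u') (Fin u') K, ∃ B' : Matrix (Fin u') (Fin u') K,
      f (Φ (Matrix.kroneckerMap (· * ·) B (1 : Matrix (Fin y) (Fin y) K))) =
        Φ (Matrix.kroneckerMap (· * ·) B' (1 : Matrix (Fin y) (Fin y) K))) → FiveB b S

theorem stmtBC4_of (hU : StmtBC4K.{u, v} true) (hS : StmtBC4K.{u, v} false) : StmtBC4.{u, v} := by
  intro K _ _ V _ _ _ b hb S
  rcases exists_kind b with h | h
  · exact hU K V b h hb S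
  · exact hS K V b h hb S

/-- `StmtBC6` for the forms of kind `c` and the dimensions `n` with `P n` -/
def StmtBC6On (c : Bool) (P : ℕ → Prop) : Prop :=
  ∀ (K : Type u) [Field K] [Finite K] (V : Type v) [AddCommGroup V] [Module K V] [Module.Finite K V] (b : Cl K V),
    Kind c b → b.Big → P (Module.finrank K V) → ∀ S : Subgroup (Equiv.Perm (R K V)), S ≤ RB b → Group.IsSolvable S →
    ∀ (A : Subgroup (Equiv.Perm (R K V))) (r a : ℕ), C6Data S A r a → FiveB b S

theorem even_finrank {K : Type u} [Field K] {V : Type v} [AddCommGroup V] [Module K V] [Module.Finite K V]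
    (b : Cl K V) (hb : b.IsSp) : Even (Module.finrank K V) := by
  let B : LinearMap.BilinForm K V := LinearMap.mk₂ K b.B b.add_left b.smul_left b.add_right
    (fun a v w => by rw [b.smul_right, hb.1]; rfl)
  exact H727.GW.even_finrank _ V B hb.2 b.nondeg rfl

/-- 5394 (unitary 3, 4), 5395 (unitary 5, 8), 5396 (unitary 7, `≥ 9`; symplectic `≥ 16`), 5397 (symplectic 4),
5398 (symplectic 8) -/
theorem stmtBC6_of (hU34 : StmtBC6On.{u, v} true fun n => n = 3 ∨ n = 4)
    (hU58 : StmtBC6On.{u, v} true fun n => n = 5 ∨ n = 8) (hUx : StmtBC6On.{u, v} true fun n => n = 7 ∨ 9 ≤ n)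
    (hS4 : StmtBC6On.{u, v} false fun n => n = 4) (hS8 : StmtBC6On.{u, v} false fun n => n = 8)
    (hSx : StmtBC6On.{u, v} false fun n => 16 ≤ n) : StmtBC6.{u, v} := by
  intro K _ _ V _ _ _ b hb S hS hsol A r a hA
  rcases exists_kind b with h | h
  · have h3 : 3 ≤ Module.finrank K V := by
      rcases hb with h' | h'
      · exact h'.2.1
      · exact absurd h'.1 (not_isSp_of_isU (h.1 rfl))
    rcases prime_pow_cases hA.1 hA.2.1 hA.2.2.1 with h' | h' | h' | h' | h' | h'
    · omega
    · exact hU34 K V b h hb (Or.inl h') S hS hsol A r a hA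
    · exact hU34 K V b h hb (Or.inr h') S hS hsol A r a hA
    · exact hU58 K V b h hb (Or.inl h') S hS hsol A r a hA
    · exact hU58 K V b h hb (Or.inr h') S hS hsol A r a hA
    · exact hUx K V b h hb h' S hS hsol A r a hA
  · have h4 : 4 ≤ Module.finrank K V := by
      rcases hb with h' | h'
      · exact absurd (h.2 rfl) (not_isSp_of_isU h'.1)
      · exact h'.2.1
    have hev := even_finrank b (h.2 rfl)
    have hr := hA.1
    have ha := hA.2.1
    have hn := hA.2.2.1
    have hr2 : r = 2 := by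
      have h2 : (2 : ℕ) ∣ r ^ a := by rw [← hn]; exact hev.two_dvd
      exact ((Nat.prime_dvd_prime_iff_eq Nat.prime_two hr).1 (Nat.prime_two.dvd_of_dvd_pow h2)).symm
    have hcases : Module.finrank K V = 4 ∨ Module.finrank K V = 8 ∨ 16 ≤ Module.finrank K V := by
      rw [hr2] at hn
      have ha2 : 2 ≤ a := by
        by_contra hcon
        have : a = 1 := by omega
        rw [hn, this] at h4
        omega
      rcases Nat.lt_or_ge a 4 with h | h
      · interval_cases a
        · left; rw [hn]; norm_num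
        · right; left; rw [hn]; norm_num
      · right; right
        rw [hn]
        calc 16 = 2 ^ 4 := by norm_num
          _ ≤ 2 ^ a := Nat.pow_le_pow_right (by norm_num) h
    rcases hcases with h' | h' | h'
    · exact hS4 K V b h hb h' S hS hsol A r a hA
    · exact hS8 K V b h hb h' S hS hsol A r a hA
    · exact hSx K V b h hb h' S hS hsol A r a hA

end Cfsg.Agent.H786.FC
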