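import Cfsg.Agent.H786.FC.Parts
set_option linter.all false

/-!
# S5764: the tensor layer with the hypothesis `(u' : K) ≠ 0`  (helper786, after helper195)

`StmtC4n`, `StmtClassN`, `StmtBC4nK`, `StmtBC4n`, `StmtBClassN`: the statements of `H198/FC/Defs.lean`, `DefsB.lean` where
the first tensor factor has dimension prime to the characteristic (in the classification `u' = r ^ a`, `r ∣ |K| - 1`).
-/

set_option autoImplicit false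

namespace Cfsg.Agent.H786.FC

open Cfsg.Agent.H198.FC

universe u v

/-- `StmtC4` with `(u' : K) ≠ 0` -/
def StmtC4n : Prop :=
  ∀ (K : Type u) [Field K] [Finite K] (V : Type v) [AddCommGroup V] [Module K V] [Module.Finite K V]
    (S : Subgroup (Equiv.Perm (R K V))), S ≤ RA K V → Group.IsSolvable S →
    ∀ (u' y : ℕ) (Φ : Matrix (Fin u' × Fin y) (Fin u' × Fin y) K ≃ₐ[K] R K V), 2 ≤ u' → 2 ≤ y → (u' : K) ≠ 0 →
    (∀ f ∈ S, ∀ B : Matrix (Fin u') (Fin u') K, ∃ B' : Matrix (Fin u') (Fin u') K,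
      f (Φ (Matrix.kroneckerMap (· * ·) B (1 : Matrix (Fin y) (Fin y) K))) =
        Φ (Matrix.kroneckerMap (· * ·) B' (1 : Matrix (Fin y) (Fin y) K))) → Five S

/-- `StmtClass` with `(u' : K) ≠ 0` -/
def StmtClassN : Prop :=
  ∀ (K : Type u) [Field K] [Finite K] (V : Type v) [AddCommGroup V] [Module K V] [Module.Finite K V]
    (S : Subgroup (Equiv.Perm (R K V))), 2 ≤ Module.finrank K V → S ≤ RA K V →
    (Module.finrank K V = 2 → S ≤ RP K V) → Group.IsSolvable S → S ⊓ IN K V ≠ ⊥ →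
    (∃ W : Submodule K V, W ≠ ⊥ ∧ W ≠ ⊤ ∧ ∀ f ∈ S, f ∈ RP K V → Stb f W) ∨
    (∃ (k d : ℕ) (e : Fin k → R K V), 2 ≤ k ∧ 1 ≤ d ∧ CompleteOrthogonalIdempotents e ∧
      (∀ i, Module.finrank K (LinearMap.range (e i)) = d) ∧
      ∀ f ∈ S, ∃ π : Equiv.Perm (Fin k), ∀ i, f (e i) = e (π i)) ∨
    (∃ E : Subalgebra K (R K V), IsField E ∧ (Module.finrank K E).Prime ∧ ∀ f ∈ S, ∀ X ∈ E, f X ∈ E) ∨
    (∃ (u' y : ℕ) (Φ : Matrix (Fin u' × Fin y) (Fin u' × Fin y) K ≃ₐ[K] R K V), 2 ≤ u' ∧ 2 ≤ y ∧ (u' : K) ≠ 0 ∧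
      ∀ f ∈ S, ∀ B : Matrix (Fin u') (Fin u') K, ∃ B' : Matrix (Fin u') (Fin u') K,
        f (Φ (Matrix.kroneckerMap (· * ·) B (1 : Matrix (Fin y) (Fin y) K))) =
          Φ (Matrix.kroneckerMap (· * ·) B' (1 : Matrix (Fin y) (Fin y) K))) ∨
    (∃ (A : Subgroup (Equiv.Perm (R K V))) (r a : ℕ), C6Data S A r a)

/-- `StmtBC4` with `(u' : K) ≠ 0`, forms of kind `c` -/
def StmtBC4nK (c : Bool) : Prop :=
  ∀ (K : Type u) [Field K] [Finite K] (V : Type v) [AddCommGroup V] [Module K V] [Module.Finite K V] (b : Cl K V),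
    Kind c b → b.Big → ∀ S : Subgroup (Equiv.Perm (R K V)), S ≤ RB b → Group.IsSolvable S →
    ∀ (u' y : ℕ) (Φ : Matrix (Fin u' × Fin y) (Fin u' × Fin y) K ≃ₐ[K] R K V), 2 ≤ u' → 2 ≤ y → (u' : K) ≠ 0 →
    (∀ B : Matrix (Fin u') (Fin u') K, ∃ B' : Matrix (Fin u') (Fin u') K,
      b.Adj (Φ (Matrix.kroneckerMap (· * ·) B (1 : Matrix (Fin y) (Fin y) K)))
        (Φ (Matrix.kroneckerMap (· * ·) B' (1 : Matrix (Fin y) (Fin y) K)))) →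
    (∀ f ∈ S, ∀ B : Matrix (Fin u') (Fin u') K, ∃ B' : Matrix (Fin u') (Fin u') K,
      f (Φ (Matrix.kroneckerMap (· * ·) B (1 : Matrix (Fin y) (Fin y) K))) =
        Φ (Matrix.kroneckerMap (· * ·) B' (1 : Matrix (Fin y) (Fin y) K))) → FiveB b S

/-- `StmtBC4` with `(u' : K) ≠ 0` -/
def StmtBC4n : Prop :=
  ∀ (K : Type u) [Field K] [Finite K] (V : Type v) [AddCommGroup V] [Module K V] [Module.Finite K V] (b : Cl K V),
    b.Big → ∀ S : Subgroup (Equiv.Perm (R K V)), S ≤ RB b → Group.IsSolvable S →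
    ∀ (u' y : ℕ) (Φ : Matrix (Fin u' × Fin y) (Fin u' × Fin y) K ≃ₐ[K] R K V), 2 ≤ u' → 2 ≤ y → (u' : K) ≠ 0 →
    (∀ B : Matrix (Fin u') (Fin u') K, ∃ B' : Matrix (Fin u') (Fin u') K,
      b.Adj (Φ (Matrix.kroneckerMap (· * ·) B (1 : Matrix (Fin y) (Fin y) K)))
        (Φ (Matrix.kroneckerMap (· * ·) B' (1 : Matrix (Fin y) (Fin y) K)))) →
    (∀ f ∈ S, ∀ B : Matrix (Fin u') (Fin u') K, ∃ B' : Matrix (Fin u') (Fin u') K,
      f (Φ (Matrix.kroneckerMap (· * ·) B (1 : Matrix (Fin y) (Fin y) K))) =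
        Φ (Matrix.kroneckerMap (· * ·) B' (1 : Matrix (Fin y) (Fin y) K))) → FiveB b S

theorem stmtBC4n_of (hU : StmtBC4nK.{u, v} true) (hS : StmtBC4nK.{u, v} false) : StmtBC4n.{u, v} := by
  intro K _ _ V _ _ _ b hb S
  rcases exists_kind b with h | h
  · exact hU K V b h hb S
  · exact hS K V b h hb S

/-- `StmtBClass` with `(u' : K) ≠ 0` -/
def StmtBClassN : Prop :=
  ∀ (K : Type u) [Field K] [Finite K] (V : Type v) [AddCommGroup V] [Module K V] [Module.Finite K V] (b : Cl K V),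
    b.Big → ∀ S : Subgroup (Equiv.Perm (R K V)), S ≤ RB b → Group.IsSolvable S → S ⊓ IN K V ≠ ⊥ →
    (∃ W : Submodule K V, W ≠ ⊥ ∧ b.TI W ∧ ∀ f ∈ S, Stb f W) ∨
    ((∀ W : Submodule K V, b.TI W → (∀ f ∈ S, Stb f W) → W = ⊥) ∧
    ((∃ W : Submodule K V, W ≠ ⊥ ∧ W ≠ ⊤ ∧ b.ND W ∧ ∀ f ∈ S, Stb f W) ∨
    (∃ (k d : ℕ) (e : Fin k → R K V), 2 ≤ k ∧ 1 ≤ d ∧ CompleteOrthogonalIdempotents e ∧ (∀ i, b.Adj (e i) (e i)) ∧
      (∀ i, Module.finrank K (LinearMap.range (e i)) = d) ∧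
      ∀ f ∈ S, ∃ π : Equiv.Perm (Fin k), ∀ i, f (e i) = e (π i)) ∨
    (∃ e : Fin 2 → R K V, CompleteOrthogonalIdempotents e ∧ b.Adj (e 0) (e 1) ∧
      ∀ f ∈ S, ∃ π : Equiv.Perm (Fin 2), ∀ i, f (e i) = e (π i)) ∨
    (∃ E : Subalgebra K (R K V), IsField E ∧ (Module.finrank K E).Prime ∧ (∀ X ∈ E, ∃ Y ∈ E, b.Adj X Y) ∧
      ∀ f ∈ S, ∀ X ∈ E, f X ∈ E) ∨
    (∃ (u' y : ℕ) (Φ : Matrix (Fin u' × Fin y) (Fin u' × Fin y) K ≃ₐ[K] R K V), 2 ≤ u' ∧ 2 ≤ y ∧ (u' : K) ≠ 0 ∧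
      (∀ B : Matrix (Fin u') (Fin u') K, ∃ B' : Matrix (Fin u') (Fin u') K,
        b.Adj (Φ (Matrix.kroneckerMap (· * ·) B (1 : Matrix (Fin y) (Fin y) K)))
          (Φ (Matrix.kroneckerMap (· * ·) B' (1 : Matrix (Fin y) (Fin y) K)))) ∧
      ∀ f ∈ S, ∀ B : Matrix (Fin u') (Fin u') K, ∃ B' : Matrix (Fin u') (Fin u') K,
        f (Φ (Matrix.kroneckerMap (· * ·) B (1 : Matrix (Fin y) (Fin y) K))) =
          Φ (Matrix.kroneckerMap (· * ·) B' (1 : Matrix (Fin y) (Fin y) K))) ∨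
    (∃ (A : Subgroup (Equiv.Perm (R K V))) (r a : ℕ), C6Data S A r a)))

end Cfsg.Agent.H786.FC
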