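import Cfsg.Agent.H198.FC.Defs
import Cfsg.Agent.H198.FC.DefsB
import Cfsg.Agent.H826.Geo.Uni
import Cfsg.Agent.H786.FC.Bridge_mg
import Cfsg.Agent.H412.FC.BBridge
import Mathlib
import Cfsg.Agent.H184.FC.C3a
import Cfsg.Agent.H786.FC.Parts
import Cfsg.Agent.H277.FC.SN
import Cfsg.Agent.H716.FC.TwoMain
import Cfsg.Agent.H563.FC.MT
import Cfsg.Agent.H786.FC.PartsC4
import Cfsg.Agent.H466.FC.S00
import Cfsg.Agent.H886.FC.ClassB
import Cfsg.Agent.H886.FC.ClassBN_mg
import Cfsg.Agent.H393.FC.C2_mg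
import Cfsg.Agent.H195.FC.C4Full_mg
import Cfsg.Agent.H200.FC.Bridge
import Cfsg.Agent.H602.FC.AutL
import Cfsg.Agent.H173.FC.C6TwoOn_mg
import Cfsg.Agent.H716.FC.C6Seven_mg
import Cfsg.Agent.H710.FC.COdd
import Cfsg.Agent.H923.FC.RedCor
import Cfsg.Agent.H510.BF.Main_mg
import Cfsg.Agent.H754.FC.Red
import Cfsg.Agent.H245.FC.CyB_mg
import Cfsg.Agent.H214.FC.C6Big_mg
import Cfsg.Agent.H10.U3.Fin_mg
set_option linter.all false

-- part: H376/FC/Asm
section
/-!
# S5764: assembly of the linear part (helper376)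

`thmL` : `StmtS00`, `StmtClass`, `StmtC2`, `StmtC3`, `StmtC4`, `StmtC6`, `StmtRed`, `StmtRedCor`, `StmtBridge`,
`StmtBridge2` give `ThmL` (strong induction on the dimension).
-/

set_option autoImplicit false

namespace Cfsg.Agent.H376.FC

open Cfsg.Agent.H198.FC

universe u v

/-- the theorem in dimension `m` over `K` -/
def ThmD (K : Type u) [Field K] (m : ℕ) : Prop :=
  ∀ (V : Type v) [AddCommGroup V] [Module K V] [Module.Finite K V], Module.finrank K V = m →
    ∀ S : Subgroup (Equiv.Perm (R K V)), S ≤ RA K V → (m = 2 → S ≤ RP K V) → Group.IsSolvable S → Five S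

/-- from the language of `R` to the semilinear language -/
theorem thmV_of_thmD (hb2 : StmtBridge2.{u, v}) (K : Type u) [Field K] [Finite K] {m : ℕ} (hm : 1 ≤ m)
    (h : ThmD.{u, v} K m) : ThmV.{u, v} K m := by
  intro V _ _ _ hV S' hS' hhm hsol
  obtain ⟨S, hS, hSs, hF⟩ := hb2 K V (by omega) S' hS' hhm hsol
  exact hF (h V hV S (hS.trans RP_le_RA) (fun _ => hS) hSs)

/-- **Assembly of the linear part.** -/
theorem thmL (h00 : StmtS00.{u, v}) (hcl : StmtClass.{u, v}) (h2 : StmtC2.{u, v}) (h3 : StmtC3.{u, v})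
    (h4 : StmtC4.{u, v}) (h6 : StmtC6.{u, v}) (hred : StmtRed.{u, v}) (hcor : StmtRedCor.{u, v})
    (hb : StmtBridge.{u, v}) (hb2 : StmtBridge2.{u, v}) : ThmL.{u, v} := by
  intro K _ _
  have key : ∀ n : ℕ, 2 ≤ n → (n = 2 → 4 ≤ Nat.card K) → ThmD.{u, v} K n := by
    intro n
    induction n using Nat.strong_induction_on with
    | _ n ih =>
      intro hn h4K V _ _ _ hV S hSA hSP hsol
      subst hV
      by_cases hIN : S ⊓ IN K V = ⊥
      · exact h00 K V hn S hSA hSP hsol hIN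
      rcases hcl K V S hn hSA hSP hsol hIN with ⟨W, hW0, hW1, hW⟩ | ⟨k, d, e, hk, hd, he, hr, hp⟩ |
        ⟨E, hE, hEp, hES⟩ | ⟨a, b, Φ, ha, hb', hΦ⟩ | ⟨A, r, a, hA⟩
      · by_cases hall : S ≤ RP K V
        · obtain ⟨S', hS', hhm, hsol', -, hinv, hF⟩ := hb K V (by omega) S hall hsol
          refine hF (hred K V S' hS' hhm hsol' h4K (fun m hm2 hmn hm4 => ?_)
            ⟨W, hW0, hW1, hinv W fun f hf => hW f hf (hall hf)⟩)
          exact thmV_of_thmD hb2 K (by omega) (ih m hmn hm2 hm4)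
        · have h3n : 3 ≤ Module.finrank K V := by
            rcases Nat.eq_or_lt_of_le hn with h | h
            · exact absurd (hSP h.symm) hall
            · exact h
          obtain ⟨f, hf, hfP⟩ := SetLike.not_le_iff_exists.mp hall
          exact hcor K V S hSA h3n hsol ⟨f, hf, hfP⟩ ⟨W, hW0, hW1, hW⟩
      · exact h2 K V S hSA hSP hsol k d e hk hd he hr hp
      · exact h3 K V S hSA (fun h => ⟨hSP h, h4K h⟩) hsol E hE hEp hES
      · exact h4 K V S hSA hsol a b Φ ha hb' hΦ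
      · exact h6 K V S hSA (fun h => ⟨hSP h, h4K h⟩) hsol A r a hA
  intro V _ _ _ hn h4K S hSA hSP hsol
  exact key _ hn h4K V rfl S hSA hSP hsol

end Cfsg.Agent.H376.FC
end

-- part: H826/FC/BS00
section
/-!
# S5764, B-S00 : solvable groups without inner-diagonal automorphisms (helper826)

`f ∈ S` with `cj x * f * (cj x)⁻¹ ∈ S` satisfies `f x = c x`; for transvections `x = 1 + X` this gives `f X = X`.
`X₁ X₂ X₁ = θ X₁` and `X₁ X₂ X₃ X₁ = θ X₁` show that `f` is the identity on the centre, hence inner, hence `1`.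
-/

set_option autoImplicit false
set_option linter.unusedSectionVars false

namespace Cfsg.Agent.H826.FC

open Cfsg.Agent.H198.FC Module

universe u v

variable {K : Type u} [Field K] {V : Type v} [AddCommGroup V] [Module K V] (b : Cl K V)

theorem exists_card_sq {D : Type u} [Field D] [Finite D] {σ : D →+* D} (hσ : σ ≠ RingHom.id D)
    (hσ2 : ∀ a, σ (σ a) = a) : ∃ q : ℕ, Nat.card D = q ^ 2 ∧ ∀ x, σ x = x ^ q := by
  obtain ⟨p, hp⟩ := CharP.exists D
  have hpp : Fact p.Prime := ⟨CharP.char_is_prime D p⟩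
  let _ : Algebra (ZMod p) D := ZMod.algebra D p
  let φ : D →ₐ[ZMod p] D := { σ with
    commutes' := fun c => by
      have h1 : σ.comp (algebraMap (ZMod p) D) = algebraMap (ZMod p) D := Subsingleton.elim _ _
      exact congrArg (fun f : ZMod p →+* D => f c) h1 }
  obtain ⟨n, hn⟩ := (FiniteField.bijective_frobeniusAlgHom_pow (ZMod p) D).2 φ
  have hx : ∀ x, σ x = x ^ p ^ (n : ℕ) := by
    intro x
    have h1 : (FiniteField.frobeniusAlgHom (ZMod p) D ^ (n : ℕ)) x = φ x := by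
      have := congrArg (fun f : D →ₐ[ZMod p] D => f x) hn
      exact this
    rw [AlgHom.coe_pow, FiniteField.coe_frobeniusAlgHom, pow_iterate, ZMod.card] at h1
    exact h1.symm
  have h2 : FiniteField.frobeniusAlgHom (ZMod p) D ^ (2 * (n : ℕ)) = 1 := by
    apply AlgHom.ext
    intro x
    rw [AlgHom.coe_pow, FiniteField.coe_frobeniusAlgHom, pow_iterate, ZMod.card, two_mul, pow_add]
    change x ^ (p ^ (n : ℕ) * p ^ (n : ℕ)) = x
    rw [pow_mul, ← hx, ← hx, hσ2]
  have h3 := orderOf_dvd_of_pow_eq_one h2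
  rw [FiniteField.orderOf_frobeniusAlgHom] at h3
  have h4 : (n : ℕ) ≠ 0 := by
    intro h
    apply hσ
    apply RingHom.ext
    intro x
    rw [hx, h, pow_zero, pow_one]
    rfl
  have h5 := n.2
  have h6 : Module.finrank (ZMod p) D = 2 * (n : ℕ) := by
    obtain ⟨k, hk⟩ := h3
    have hk1 : k = 1 := by
      rcases Nat.lt_or_ge k 1 with h | h
      · have : k = 0 := by omega
        subst this
        omega
      · rcases Nat.eq_or_lt_of_le h with h | h
        · exact h.symm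
        · exfalso
          have : Module.finrank (ZMod p) D * 2 ≤ Module.finrank (ZMod p) D * k := Nat.mul_le_mul_left _ h
          omega
    rw [hk1, mul_one] at hk
    exact hk.symm
  refine ⟨p ^ (n : ℕ), ?_, hx⟩
  have h7 := Module.natCard_eq_pow_finrank (K := ZMod p) (V := D)
  have h8 : p ^ Module.finrank (ZMod p) D = p ^ (2 * (n : ℕ)) := congrArg (fun k => p ^ k) h6
  rw [Nat.card_zmod, h8] at h7
  rw [h7, ← pow_mul, mul_comm]

/-! ### transvections -/

/-- the rank one map `y ↦ a B(y,u) u` -/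
def tx (a : K) (u : V) : R K V where
  toFun y := (a * b.B y u) • u
  map_add' x y := by rw [b.add_left, mul_add, add_smul]
  map_smul' c x := by rw [b.smul_left, RingHom.id_apply, smul_smul]; ring_nf

theorem tx_apply (a : K) (u y : V) : tx b a u y = (a * b.B y u) • u := rfl

theorem tx_sq {a : K} {u : V} (h : b.B u u = 0) : tx b a u * tx b a u = 0 := by
  ext y
  rw [Module.End.mul_apply, tx_apply, tx_apply, b.smul_left, h, mul_zero, mul_zero, zero_smul]
  rfl

theorem B_zero_left (x : V) : b.B 0 x = 0 := by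
  have h := b.add_left 0 0 x
  rw [add_zero] at h
  exact left_eq_add.mp h

/-- the transvection `1 + tx a u` -/
def tv (a : K) (u : V) (h : b.B u u = 0) : (R K V)ˣ where
  val := 1 + tx b a u
  inv := 1 - tx b a u
  val_inv := by
    have := tx_sq b (a := a) h
    rw [mul_sub, add_mul, one_mul, mul_one, add_mul, one_mul, this]
    abel
  inv_val := by
    have := tx_sq b (a := a) h
    rw [mul_add, sub_mul, one_mul, mul_one, sub_mul, one_mul, this]
    abel

theorem tv_val (a : K) (u : V) (h : b.B u u = 0) : ((tv b a u h : (R K V)ˣ) : R K V) = 1 + tx b a u := rfl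

theorem tv_det [Module.Finite K V] (a : K) (u : V) (h : b.B u u = 0) :
    LinearMap.det ((tv b a u h : (R K V)ˣ) : R K V) = 1 := by
  let f : Dual K V := { toFun := fun y => a * b.B y u
                        map_add' := fun x y => by rw [b.add_left, mul_add]
                        map_smul' := fun c x => by rw [b.smul_left, RingHom.id_apply, smul_eq_mul]; ring }
  have h1 : ((tv b a u h : (R K V)ˣ) : R K V) = LinearMap.transvection f u := by
    ext y
    rfl
  rw [h1, LinearMap.transvection.det]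
  change 1 + a * b.B u u = 1
  rw [h, mul_zero, add_zero]

/-- `B (x, y) ↦ B (y, x)` on a pair : the sign of the form -/
theorem tv_isom {a : K} {u : V} (h : b.B u u = 0) (ha : ∀ v w, a * b.B v u * b.B u w + b.τ a * b.τ (b.B w u) * b.B v u = 0) :
    b.Isom ((tv b a u h : (R K V)ˣ) : R K V) := by
  intro v w
  have e : ∀ y, ((tv b a u h : (R K V)ˣ) : R K V) y = y + (a * b.B y u) • u := fun y => rfl
  rw [e, e, b.add_left, b.add_right, b.add_right, b.smul_left, b.smul_right, b.smul_left, b.smul_right, h, mul_zero,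
    mul_zero, add_zero, map_mul]
  linear_combination ha v w

/-- the middle multiplication -/
theorem tx_mid (a : K) (u : V) (Y : R K V) : tx b a u * Y * tx b a u = (a * b.B (Y u) u) • tx b a u := by
  ext y
  change (a * b.B (Y ((a * b.B y u) • u)) u) • u = (a * b.B (Y u) u) • ((a * b.B y u) • u)
  rw [map_smul, b.smul_left, smul_smul]
  congr 1
  ring

/-! ### elements of `S` -/

variable {b}

theorem map_one_of {f : Equiv.Perm (R K V)} (hf : f ∈ RP K V) : f 1 = 1 := by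
  have h1 : ∀ Y : R K V, f 1 * Y = Y := by
    intro Y
    obtain ⟨X, rfl⟩ := f.surjective Y
    rw [← hf.2, one_mul]
  have h2 := h1 1
  rwa [mul_one] at h2

theorem map_zero_of {f : Equiv.Perm (R K V)} (hf : f ∈ RP K V) : f 0 = 0 := by
  have h := hf.1 0 0
  rw [add_zero] at h
  exact left_eq_add.mp h

/-- central elements are scalars -/
theorem scalar_of_comm {C : R K V} (h : ∀ X, C * X = X * C) : ∃ c : K, C = c • (1 : R K V) := by
  have h1 : C ∈ Subalgebra.center K (R K V) := by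
    rw [Subalgebra.mem_center_iff]
    intro X
    exact (h X).symm
  rw [Algebra.IsCentral.center_eq_bot, Algebra.mem_bot] at h1
  obtain ⟨c, hc⟩ := h1
  exact ⟨c, by rw [← hc, Algebra.algebraMap_eq_smul_one]⟩

theorem fix_of_mem {S : Subgroup (Equiv.Perm (R K V))} (hS : S ≤ RB b) (hSI : S ⊓ IN K V = ⊥) {f : Equiv.Perm (R K V)}
    (hf : f ∈ S) {a : K} {u : V} (h : b.B u u = 0) (hx : cj K V (tv b a u h) * f * (cj K V (tv b a u h))⁻¹ ∈ S) :
    f (tx b a u) = tx b a u := by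
  have hfP : f ∈ RP K V := (hS hf).1
  have hf1 := map_one_of hfP
  set x := tv b a u h with hxd
  let x' : (R K V)ˣ := ⟨f (x : R K V), f ((x⁻¹ : (R K V)ˣ) : R K V), by rw [← hfP.2, Units.mul_inv, hf1], by
    rw [← hfP.2, Units.inv_mul, hf1]⟩
  have h1 : f * cj K V x = cj K V x' * f := by
    apply Equiv.ext
    intro X
    change f (x * X * ((x⁻¹ : (R K V)ˣ) : R K V)) = f (x : R K V) * f X * f ((x⁻¹ : (R K V)ˣ) : R K V)
    rw [hfP.2, hfP.2]
  have h2 : f * (cj K V x * f * (cj K V x)⁻¹)⁻¹ = cj K V (x' * x⁻¹) := by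
    have h3 : f * (cj K V x * f * (cj K V x)⁻¹)⁻¹ = f * cj K V x * f⁻¹ * (cj K V x)⁻¹ := by group
    rw [h3, h1, mul_inv_cancel_right, map_mul, map_inv]
  have h3 : cj K V (x' * x⁻¹) ∈ S ⊓ IN K V := by
    refine ⟨?_, ⟨_, rfl⟩⟩
    rw [← h2]
    exact S.mul_mem hf (S.inv_mem hx)
  rw [hSI, Subgroup.mem_bot] at h3
  obtain ⟨c, hc⟩ := scalar_of_comm (C := ((x' * x⁻¹ : (R K V)ˣ) : R K V)) (fun X => by
    have h4 : cj K V (x' * x⁻¹) X = X := by rw [h3]; rfl
    rw [cj_apply] at h4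
    rw [← Units.mul_inv_eq_iff_eq_mul]
    exact h4)
  have h5 : f (x : R K V) = c • (x : R K V) := by
    have h6 : ((x' * x⁻¹ : (R K V)ˣ) : R K V) * x = (x' : R K V) := by
      rw [Units.val_mul, mul_assoc, Units.inv_mul, mul_one]
    rw [hc, smul_mul_assoc, one_mul] at h6
    exact h6.symm
  have hsq := tx_sq b (a := a) h
  have h6 : f (tx b a u) = c • (1 + tx b a u) - 1 := by
    have h7 : f (x : R K V) = f 1 + f (tx b a u) := by
      rw [← hfP.1]
      rfl
    rw [h5, hf1] at h7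
    rw [eq_sub_iff_add_eq, add_comm, ← h7]
    rfl
  by_cases h0 : tx b a u = 0
  · rw [h0, map_zero_of hfP]
  have h7 : f (tx b a u) * f (tx b a u) = 0 := by rw [← hfP.2, hsq, map_zero_of hfP]
  have h8 : (c - 1) ^ 2 • tx b a u = 0 := by
    have h9 : f (tx b a u) * f (tx b a u) * tx b a u = (c - 1) ^ 2 • tx b a u := by
      have e1 : f (tx b a u) * tx b a u = (c - 1) • tx b a u := by
        rw [h6, sub_mul, smul_mul_assoc, add_mul, hsq, one_mul, add_zero, sub_smul, one_smul]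
      rw [mul_assoc, e1, mul_smul_comm, e1, smul_smul, pow_two]
    rw [h7, zero_mul] at h9
    exact h9.symm
  have h9 : c = 1 := by
    have h10 := (smul_eq_zero.mp h8).resolve_right h0
    exact sub_eq_zero.mp (pow_eq_zero_iff two_ne_zero |>.mp h10)
  rw [h6, h9, one_smul, add_sub_cancel_left]

/-- the fixed scalars -/
def Fixd (f : Equiv.Perm (R K V)) (c : K) : Prop := f (c • (1 : R K V)) = c • (1 : R K V)

theorem fixd_of_mid {f : Equiv.Perm (R K V)} (hf : f ∈ RP K V) {X Y : R K V} {c : K} (hX : f X = X) (hY : f Y = Y)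
    (hX0 : X ≠ 0) (h : X * Y * X = c • X) : Fixd f c := by
  obtain ⟨d, hd⟩ := scalar_of_comm (C := f (c • (1 : R K V))) (fun Z => by
    obtain ⟨Z, rfl⟩ := f.surjective Z
    rw [← hf.2, ← hf.2, smul_mul_assoc, one_mul, mul_smul_comm, mul_one])
  have h1 : f (X * Y * X) = X * Y * X := by rw [hf.2, hf.2, hX, hY]
  have h2 : c • X = (c • (1 : R K V)) * X := by rw [smul_mul_assoc, one_mul]
  rw [h, h2, hf.2, hd, hX, smul_mul_assoc, one_mul, smul_mul_assoc, one_mul] at h1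
  have h3 : (d - c) • X = 0 := by rw [sub_smul, h1, sub_self]
  have h4 := sub_eq_zero.mp ((smul_eq_zero.mp h3).resolve_right hX0)
  unfold Fixd
  rw [hd, h4]

theorem Fixd.mul {f : Equiv.Perm (R K V)} (hf : f ∈ RP K V) {c d : K} (hc : Fixd f c) (hd : Fixd f d) :
    Fixd f (c * d) := by
  unfold Fixd at *
  have h1 : ((c * d) • (1 : R K V)) = (c • (1 : R K V)) * (d • (1 : R K V)) := by
    rw [smul_mul_smul_comm, one_mul]
  rw [h1, hf.2, hc, hd]

theorem Fixd.add {f : Equiv.Perm (R K V)} (hf : f ∈ RP K V) {c d : K} (hc : Fixd f c) (hd : Fixd f d) :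
    Fixd f (c + d) := by
  unfold Fixd at *
  rw [add_smul, hf.1, hc, hd]

theorem Fixd.zero {f : Equiv.Perm (R K V)} (hf : f ∈ RP K V) : Fixd f (0 : K) := by
  unfold Fixd
  rw [zero_smul, map_zero_of hf]

theorem Fixd.pow {f : Equiv.Perm (R K V)} (hf : f ∈ RP K V) {c : K} (hc : Fixd f c) (n : ℕ) : Fixd f (c ^ n) := by
  induction n with
  | zero =>
    unfold Fixd
    rw [pow_zero, one_smul, map_one_of hf]
  | succ n ih => rw [pow_succ]; exact ih.mul hf hc

/-- if all scalars are fixed then `f` is inner -/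
theorem mem_IN {f : Equiv.Perm (R K V)} (hf : f ∈ RP K V) (h : ∀ c : K, Fixd f c) : f ∈ IN K V := by
  let F : R K V ≃ₐ[K] R K V := AlgEquiv.ofBijective
    { toFun := f
      map_one' := map_one_of hf
      map_mul' := hf.2
      map_zero' := map_zero_of hf
      map_add' := hf.1
      commutes' := fun c => by
        rw [Algebra.algebraMap_eq_smul_one]
        exact h c } f.bijective
  obtain ⟨T, hT⟩ := AlgEquiv.eq_linearEquivConjAlgEquiv F
  refine ⟨⟨(T : V →ₗ[K] V), (T.symm : V →ₗ[K] V), ?_, ?_⟩, ?_⟩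
  · ext v
    exact T.apply_symm_apply v
  · ext v
    exact T.symm_apply_apply v
  · apply Equiv.ext
    intro X
    have h1 : f X = F X := rfl
    rw [h1, hT]
    rfl

/-! ### the scalars -/

theorem exists_gen [Finite K] (τ : K ≃+* K) : ∃ k : K, τ k = k ∧ k ≠ 0 ∧ ∀ c, τ c = c → c ≠ 0 → ∃ n : ℕ, c = k ^ n := by
  classical
  let K0 : Subfield K := RingHom.eqLocusField (τ : K →+* K) (RingHom.id K)
  obtain ⟨g, hg⟩ := IsCyclic.exists_generator (α := K0ˣ)
  refine ⟨((g : K0ˣ) : K0), (g : K0).2, fun h0 => Units.ne_zero g (Subtype.ext h0), ?_⟩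
  intro c hc hc0
  have h1 := hg (Units.mk0 (⟨c, hc⟩ : K0) (fun h => hc0 (congrArg Subtype.val h)))
  rw [mem_zpowers_iff_mem_range_orderOf, Finset.mem_image] at h1
  obtain ⟨n, -, hn⟩ := h1
  refine ⟨n, ?_⟩
  have h2 := congrArg (fun t : K0ˣ => ((t : K0) : K)) hn
  simp only [Units.val_pow_eq_pow_val, SubmonoidClass.coe_pow, Units.val_mk0] at h2
  exact h2.symm

/-! ### the theorem -/

/-- the conclusion from three transvections -/
theorem five_of [Finite K] [Module.Finite K V] {S : Subgroup (Equiv.Perm (R K V))} (hS : S ≤ RB b)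
    (hSI : S ⊓ IN K V = ⊥) {a1 a2 a3 : K} {u1 u2 u3 : V} (h1 : b.B u1 u1 = 0) (h2 : b.B u2 u2 = 0)
    (h3 : b.B u3 u3 = 0)
    (i1 : ∀ v w, a1 * b.B v u1 * b.B u1 w + b.τ a1 * b.τ (b.B w u1) * b.B v u1 = 0)
    (i2 : ∀ v w, a2 * b.B v u2 * b.B u2 w + b.τ a2 * b.τ (b.B w u2) * b.B v u2 = 0)
    (i3 : ∀ v w, a3 * b.B v u3 * b.B u3 w + b.τ a3 * b.τ (b.B w u3) * b.B v u3 = 0)
    (h0 : tx b a1 u1 ≠ 0)
    (hgen : ∀ f ∈ RP K V, Fixd f (a1 * (a2 * b.B u1 u2 * b.B u2 u1)) →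
      Fixd f (a1 * (a2 * (a3 * b.B u1 u3) * b.B u3 u2 * b.B u2 u1)) → ∀ c : K, Fixd f c) : FiveB b S := by
  refine ⟨![tv b a1 u1 h1, tv b a2 u2 h2, tv b a3 u3 h3, tv b a3 u3 h3], ?_, ?_, ?_⟩
  · intro i
    fin_cases i
    · exact tv_det b a1 u1 h1
    · exact tv_det b a2 u2 h2
    · exact tv_det b a3 u3 h3
    · exact tv_det b a3 u3 h3
  · intro i
    fin_cases i
    · exact tv_isom b h1 i1
    · exact tv_isom b h2 i2
    · exact tv_isom b h3 i3
    · exact tv_isom b h3 i3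
  · intro f hf hfx
    have hfP : f ∈ RP K V := (hS hf).1
    have e1 := fix_of_mem hS hSI hf h1 (hfx 0)
    have e2 := fix_of_mem hS hSI hf h2 (hfx 1)
    have e3 := fix_of_mem hS hSI hf h3 (hfx 2)
    have m1 := tx_mid b a1 u1 (tx b a2 u2)
    have m2 := tx_mid b a1 u1 (tx b a2 u2 * tx b a3 u3)
    have e4 : f (tx b a2 u2 * tx b a3 u3) = tx b a2 u2 * tx b a3 u3 := by rw [hfP.2, e2, e3]
    have c1 : b.B (tx b a2 u2 u1) u1 = a2 * b.B u1 u2 * b.B u2 u1 := by
      rw [tx_apply, b.smul_left]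
    have c2 : b.B ((tx b a2 u2 * tx b a3 u3) u1) u1 = a2 * (a3 * b.B u1 u3) * b.B u3 u2 * b.B u2 u1 := by
      rw [Module.End.mul_apply, tx_apply, tx_apply, b.smul_left, b.smul_left]
      ring
    rw [c1] at m1
    rw [c2] at m2
    have f1 := fixd_of_mid hfP e1 e2 h0 m1
    have f2 := fixd_of_mid hfP e1 e4 h0 m2
    have h4 : f ∈ S ⊓ IN K V := ⟨hf, mem_IN hfP (hgen f hfP f1 f2)⟩
    rw [hSI, Subgroup.mem_bot] at h4
    exact h4

theorem tx_ne_zero {a : K} {u v : V} (ha : a ≠ 0) (h : b.B v u ≠ 0) (hu : u ≠ 0) : tx b a u ≠ 0 := by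
  intro h0
  have h1 := LinearMap.congr_fun h0 v
  rw [tx_apply, LinearMap.zero_apply] at h1
  exact mul_ne_zero ha h ((smul_eq_zero.mp h1).resolve_right hu)

/-- symplectic forms -/
theorem sp_case [Finite K] [Module.Finite K V] (hb : b.IsSp) (hn : 1 ≤ Module.finrank K V)
    {S : Subgroup (Equiv.Perm (R K V))} (hS : S ≤ RB b) (hSI : S ⊓ IN K V = ⊥) : FiveB b S := by
  have hnt : Nontrivial V := (Module.finrank_pos_iff (R := K)).mp (by omega)
  obtain ⟨u, hu⟩ := exists_ne (0 : V)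
  obtain ⟨v0, hv0⟩ : ∃ v, b.B u v ≠ 0 := by
    by_contra hcon
    push Not at hcon
    exact hu (b.nondeg u hcon)
  have hsk : ∀ v w, b.B w v = - b.B v w := by
    intro v w
    have h1 := hb.2 (v + w)
    rw [b.add_left, b.add_right, b.add_right, hb.2, hb.2, zero_add, add_zero] at h1
    exact eq_neg_of_add_eq_zero_right h1
  obtain ⟨v, huv⟩ : ∃ v, b.B u v = 1 := ⟨(b.B u v0)⁻¹ • v0, by rw [b.smul_right, hb.1, inv_mul_cancel₀ hv0]⟩
  have hvu : b.B v u = -1 := by rw [hsk, huv]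
  obtain ⟨k, -, hk0, hk⟩ := exists_gen b.τ
  have iso : ∀ (a : K) (u v w : V), a * b.B v u * b.B u w + b.τ a * b.τ (b.B w u) * b.B v u = 0 := by
    intro a u v w
    rw [hb.1, hb.1, hsk u w]
    ring
  refine five_of hS hSI (a1 := -k) (a2 := 1) (a3 := 1) (u1 := u) (u2 := v) (u3 := v) (hb.2 u) (hb.2 v) (hb.2 v)
    (iso _ _) (iso _ _) (iso _ _) (tx_ne_zero (v := v) (neg_ne_zero.mpr hk0) (by rw [hvu]; exact neg_ne_zero.mpr one_ne_zero) hu) ?_
  intro f hf h1 _ c
  rw [huv, hvu] at h1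
  have h2 : Fixd f k := by
    have : -k * (1 * 1 * -1) = k := by ring
    rwa [this] at h1
  by_cases hc : c = 0
  · rw [hc]; exact Fixd.zero hf
  · obtain ⟨n, rfl⟩ := hk c (hb.1 c) hc
    exact h2.pow hf n

open Cfsg.Agent.H847.Bs Cfsg.Agent.H826.Bs Cfsg.Agent.H826.Geo Cfsg.Agent.LieClassical in
/-- unitary forms -/
theorem u_case [Finite K] [Module.Finite K V] (hb : b.IsU) (hn : 3 ≤ Module.finrank K V)
    {S : Subgroup (Equiv.Perm (R K V))} (hS : S ≤ RB b) (hSI : S ⊓ IN K V = ⊥) : FiveB b S := by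
  obtain ⟨q, hq, hτ⟩ := exists_card_sq (σ := (b.τ : K →+* K)) (by
    intro h
    obtain ⟨a, ha⟩ := hb.1
    exact ha (RingHom.congr_fun h a)) b.invol
  have hτ' : ∀ a, b.τ a = a ^ q := hτ
  have := Fintype.ofFinite K
  have hF : Fintype.card K = q ^ 2 := by rw [← Nat.card_eq_fintype_card, hq]
  have hh : HForm b.τ b.B := ⟨b.add_left, b.smul_left, hb.2, b.nondeg⟩
  have hk := hh.singDim hq hτ'
  -- `u`, `v`
  obtain ⟨u, -, hu0, hus⟩ := hk ⊤ (by rw [finrank_top]; omega)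
  have huu : b.B u u = 0 := hh.sng_iff.mp hus
  obtain ⟨v0, hv0⟩ : ∃ v, b.B u v ≠ 0 := by
    by_contra hcon
    push Not at hcon
    exact hu0 (b.nondeg u hcon)
  obtain ⟨v1, huv1⟩ : ∃ v1, b.B u v1 = 1 :=
    ⟨b.τ ((b.B u v0)⁻¹) • v0, by rw [b.smul_right, b.invol, inv_mul_cancel₀ hv0]⟩
  have hv1u : b.B v1 u = 1 := by rw [hb.2 u v1, huv1, map_one]
  obtain ⟨s, hs⟩ := HermBasic.exists_trace_eq hF (c := - b.B v1 v1) (by
    rw [HermBasic.neg_pow_q hF, ← hτ', ← hb.2])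
  rw [← hτ'] at hs
  obtain ⟨v, hv⟩ : ∃ v, v = v1 + s • u := ⟨_, rfl⟩
  have huv : b.B u v = 1 := by rw [hv, b.add_right, b.smul_right, huu, mul_zero, add_zero, huv1]
  have hvu : b.B v u = 1 := by rw [hb.2 u v, huv, map_one]
  have hvv : b.B v v = 0 := by
    rw [hv, b.add_left, b.add_right, b.add_right, b.smul_left, b.smul_left, b.smul_right, b.smul_right, huu, huv1, hv1u]
    linear_combination hs
  -- `z`
  set Φ := hh.frm with hΦ
  have hHerm : IsHerm q Φ := ⟨b.nondeg, hq, hτ', fun _ => rfl, fun x y => by rw [← hτ']; exact hb.2 x y⟩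
  have hPn : Φ.NdOn (Submodule.span K ({u, v} : Set V)) := by
    intro x hx hxy
    obtain ⟨s, t, rfl⟩ := Submodule.mem_span_pair.mp hx
    have e1 : b.B (s • u + t • v) u = 0 := hxy u (Submodule.subset_span (by simp))
    have e2 : b.B (s • u + t • v) v = 0 := hxy v (Submodule.subset_span (by simp))
    rw [b.add_left, b.smul_left, b.smul_left, huu, hvu, mul_zero, mul_one, zero_add] at e1
    rw [b.add_left, b.smul_left, b.smul_left, huv, hvv, mul_zero, mul_one, add_zero] at e2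
    rw [e1, e2, zero_smul, zero_smul, add_zero]
  have hdec := dec_prp hPn
  have hfr := Dec.finrank_add hdec
  have hf2 : Module.finrank K (Submodule.span K ({u, v} : Set V)) ≤ 2 := by
    classical
    have h5 := finrank_span_finset_le_card (R := K) ({u, v} : Finset V)
    rw [Finset.coe_pair, Set.finrank] at h5
    exact h5.trans Finset.card_le_two
  have hpos : 0 < Module.finrank K (prp Φ (Submodule.span K ({u, v} : Set V))) := by omega
  obtain ⟨⟨x, hx⟩, hx0⟩ := @exists_ne (prp Φ (Submodule.span K ({u, v} : Set V))) (Module.finrank_pos_iff.mp hpos) 0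
  obtain ⟨z, hz, hzz⟩ := herm_aniso hHerm (Dec.ndOn_right hdec b.nondeg) hx (fun h => hx0 (Subtype.ext h))
  have hzz' : b.B z z ≠ 0 := hzz
  rw [mem_prp2] at hz
  have hzu : b.B z u = 0 := hz.1
  have hzv : b.B z v = 0 := hz.2
  have huz : b.B u z = 0 := by rw [hb.2 z u, hzu, map_zero]
  have hvz : b.B v z = 0 := by rw [hb.2 z v, hzv, map_zero]
  obtain ⟨α, hα⟩ := HermBasic.exists_trace_eq hF (c := - b.B z z) (by
    rw [HermBasic.neg_pow_q hF, ← hτ', ← hb.2])
  rw [← hτ'] at hα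
  obtain ⟨w, hw⟩ : ∃ w, w = α • u + (v + z) := ⟨_, rfl⟩
  have huw : b.B u w = 1 := by
    rw [hw, b.add_right, b.add_right, b.smul_right, huu, huv, huz]
    ring
  have hwv : b.B w v = α := by
    rw [hw, b.add_left, b.add_left, b.smul_left, huv, hvv, hzv]
    ring
  have hww : b.B w w = 0 := by
    have e1 : b.B w w = α * b.B u w + (b.B v w + b.B z w) := by
      conv_lhs => rw [hw, b.add_left, b.add_left, b.smul_left, ← hw]
    have e2 : b.B v w = b.τ α := by rw [hb.2 w v, hwv]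
    have e3 : b.B z w = b.B z z := by
      rw [hw, b.add_right, b.add_right, b.smul_right, hzu, hzv]
      ring
    rw [e1, e2, e3, huw]
    linear_combination hα
  -- scalars
  obtain ⟨k, hkτ, hk0, hkg⟩ := exists_gen b.τ
  obtain ⟨ω, hω0, hω⟩ := HermBasic.exists_trace_zero_ne hF
  rw [← hτ'] at hω
  have hωτ : b.τ ω = -ω := eq_neg_of_add_eq_zero_right hω
  have iso : ∀ (a : K), b.τ a = -a → ∀ (u v w : V), a * b.B v u * b.B u w + b.τ a * b.τ (b.B w u) * b.B v u = 0 := by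
    intro a ha u v w
    rw [ha, ← hb.2 w u]
    ring
  have h2 : b.τ (k * ω⁻¹) = -(k * ω⁻¹) := by
    rw [map_mul, hkτ, map_inv₀, hωτ, inv_neg, mul_neg]
  refine five_of hS hSI (a1 := ω) (a2 := k * ω⁻¹) (a3 := ω) (u1 := u) (u2 := v) (u3 := w) huu hvv hww
    (iso _ hωτ u) (iso _ h2 v) (iso _ hωτ w) (tx_ne_zero (v := v) hω0 (by rw [hvu]; exact one_ne_zero) hu0) ?_
  intro f hf h1 h3 c
  have g1 : Fixd f k := by
    have e1 : ω * (k * ω⁻¹ * b.B u v * b.B v u) = k := by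
      rw [huv, hvu]
      field_simp
    rwa [e1] at h1
  have hfix : ∀ c, b.τ c = c → Fixd f c := by
    intro c hc
    by_cases hc0 : c = 0
    · rw [hc0]; exact Fixd.zero hf
    · obtain ⟨n, rfl⟩ := hkg c hc hc0
      exact g1.pow hf n
  obtain ⟨t, ht⟩ : ∃ t, t = ω * (k * ω⁻¹ * (ω * b.B u w) * b.B w v * b.B v u) := ⟨_, rfl⟩
  rw [← ht] at h3
  have ht' : t = k * ω * α := by
    rw [ht, huw, hwv, hvu]
    field_simp
  have htτ : b.τ t - t ≠ 0 := by
    rw [ht', map_mul, map_mul, hkτ, hωτ]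
    intro h4
    apply hzz'
    have h5 : k * ω * (α + b.τ α) = 0 := by linear_combination -h4
    rw [hα] at h5
    have h6 := (mul_eq_zero.mp h5).resolve_left (mul_ne_zero hk0 hω0)
    exact neg_eq_zero.mp h6
  -- `c = x + y t`
  obtain ⟨y, hy⟩ : ∃ y, y = (b.τ c - c) / (b.τ t - t) := ⟨_, rfl⟩
  have hyτ : b.τ y = y := by
    rw [hy, map_div₀, map_sub, map_sub, b.invol, b.invol, ← neg_sub c (b.τ c), ← neg_sub t (b.τ t), neg_div_neg_eq]
  have hxτ : b.τ (c - y * t) = c - y * t := by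
    rw [map_sub, map_mul, hyτ]
    have h7 : y * (b.τ t - t) = b.τ c - c := by rw [hy, div_mul_cancel₀ _ htτ]
    linear_combination -h7
  have h8 := (hfix _ hxτ).add hf ((hfix y hyτ).mul hf h3)
  rwa [sub_add_cancel] at h8

/-- **B-S00** -/
theorem stmtBS00 : StmtBS00.{u, v} := by
  intro K _ _ V _ _ _ b hbig S hS _ hSI
  rcases hbig with ⟨hb, hn, -⟩ | ⟨hb, hn, -⟩
  · exact u_case hb hn hS hSI
  · exact sp_case hb (by omega) hS hSI

end Cfsg.Agent.H826.FC
end

-- part: H412/FC/AutU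
section
/-!
# S5764 [B-AUTU]: `ThmB → StmtAutU` (helper412)
-/

set_option autoImplicit false

namespace Cfsg.Agent.H412.FC

open Subgroup Cfsg
open Cfsg.Agent.H903.SylSemi (Semi SemiU scal scal_apply Ind IsSUMap)
open Cfsg.Agent.LieClassical.HermBasic
open Cfsg.Agent.H198.FC (Cl RB cj hm hm_apply FiveB ThmB StmtAutU FiveAut)
open Cfsg.Agent.H200.FC (Ph Ph_apply Ph_apply' eq_Ph Ph_mem Ph_hm Ph_ker hm_mem lin_mem ofU toU ofU_apply ofU_coe
  toU_ofU toU_coe Ph_lin)

/-- the standard hermitian form as a `Cl` -/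
def clU {F : Type} [Field F] [Fintype F] {q : ℕ} (n : ℕ) (hF : Fintype.card F = q ^ 2) : Cl F (Fin n → F) where
  τ := conj hF
  B := hermForm n F q
  add_left := herm_add_left
  add_right := herm_add_right hF
  smul_left := herm_smul_left
  smul_right a v w := herm_smul_right a v w
  nondeg _ h := herm_nondeg hF h
  invol a := pow_q_pow_q hF a
  typ := Or.inl ⟨exists_not_fixed hF, fun v w => herm_swap hF v w⟩

variable {F : Type} [Field F] [Fintype F] {n q : ℕ}

theorem semiU_iff (hF : Fintype.card F = q ^ 2) (y : Equiv.Perm (Fin n → F)) :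
    SemiU F n q y ↔ ∃ σ μ, IsSim (clU n hF) y σ μ := by
  constructor
  · rintro ⟨θ, τ, h0, ⟨h1, h2⟩, h3⟩
    exact ⟨θ, τ, h0, h1, h2, h3⟩
  · rintro ⟨θ, τ, h0, h1, h2, h3⟩
    exact ⟨θ, τ, h0, ⟨h1, h2⟩, h3⟩

/-- linear isometries of determinant 1 -/
def XU (hF : Fintype.card F = q ^ 2) (g : Equiv.Perm (Fin n → F)) : Prop :=
  ∃ x : (Fin n → F) ≃ₗ[F] (Fin n → F), LinearMap.det (x : (Fin n → F) →ₗ[F] (Fin n → F)) = 1 ∧
    (∀ v w, (clU n hF).B (x v) (x w) = (clU n hF).B v w) ∧ (x.toEquiv : Equiv.Perm (Fin n → F)) = g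

theorem famU (hF : Fintype.card F = q ^ 2) : Fam F (SemiU F n q) (XU hF) where
  one := (semiU_iff hF 1).2 ⟨_, _, IsSim.one _⟩
  mul y y' h h' := by
    obtain ⟨σ, μ, h1⟩ := (semiU_iff hF y).1 h
    obtain ⟨σ', μ', h1'⟩ := (semiU_iff hF y').1 h'
    exact (semiU_iff hF _).2 ⟨_, _, h1.mul h1'⟩
  scal a := (semiU_iff hF _).2 ⟨_, _, isSim_hm (clU n hF) a⟩
  semi := by
    rintro y ⟨θ, τ, h0, h1, h3⟩
    exact ⟨θ, h1⟩
  XY := by
    rintro _ ⟨x, -, hx, rfl⟩
    exact (semiU_iff hF _).2 ⟨_, _, isSim_of_isom x hx⟩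
  Xconj := by
    rintro y _ hy ⟨x, hd, hx, rfl⟩
    obtain ⟨σ, μ, h1⟩ := (semiU_iff hF y).1 hy
    obtain ⟨z, z1, z2, z3⟩ := exists_conj_isom h1 x hd hx
    exact ⟨z, z1, z2, z3⟩

theorem XU_su (hF : Fintype.card F = q ^ 2) {g : Equiv.Perm (Fin n → F)} (h : XU hF g) :
    ∃ s, H177.MeetPSU.rho n F q s = g := by
  obtain ⟨x, hd, hx, rfl⟩ := h
  exact H177.MeetPSU.exists_su ⟨⟨(x : (Fin n → F) →ₗ[F] (Fin n → F)), fun v => rfl, hd⟩, hx⟩

theorem big_clU (hF : Fintype.card F = q ^ 2) (hn : 3 ≤ n) (h32 : ¬ (n = 3 ∧ q = 2)) : (clU n hF).Big := by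
  refine Or.inl ⟨⟨exists_not_fixed hF, fun v w => herm_swap hF v w⟩, ?_, fun h3 h4 => h32 ?_⟩
  · rw [Module.finrank_fin_fun]
    exact hn
  · rw [Module.finrank_fin_fun] at h3
    refine ⟨h3, ?_⟩
    rw [Nat.card_eq_fintype_card, hF] at h4
    have : q * q = 2 * 2 := by rw [← sq, h4]
    exact Nat.mul_self_inj.1 this

theorem geoU (hB : ThmB.{0, 0}) (hF : Fintype.card F = q ^ 2) (hn : 3 ≤ n) (h32 : ¬ (n = 3 ∧ q = 2))
    (G : Subgroup (Equiv.Perm (Fin n → F))) (hG : SolG F (SemiU F n q) G) : Concl F (XU hF) G := by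
  classical
  have hnt : Nontrivial (Fin n → F) := by
    have : Nonempty (Fin n) := ⟨⟨0, by omega⟩⟩
    infer_instance
  have hle : G ≤ H198.FC.Semi F (Fin n → F) := by
    intro y hy
    obtain ⟨σ, μ, h⟩ := (semiU_iff hF y).1 (hG.mem y hy)
    exact semi_of_isSim h
  let SR : Subgroup (Equiv.Perm (H198.FC.R F (Fin n → F))) :=
    (G.comap (H198.FC.Semi F (Fin n → F)).subtype).map (Ph F (Fin n → F))
  have h1 : SR ≤ RB (clU n hF) := by
    rintro _ ⟨g, hg, rfl⟩
    obtain ⟨σ, μ, h⟩ := (semiU_iff hF _).1 (hG.mem _ hg)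
    exact Ph_mem_RB h g.2
  have h2 : Group.IsSolvable SR := by
    have h1 : Group.IsSolvable (G.comap (H198.FC.Semi F (Fin n → F)).subtype) := by
      have := hG.sol
      apply Group.isSolvable_of_isSolvable_injective
        (f := (H198.FC.Semi F (Fin n → F)).subtype.subgroupComap G)
      intro a b hab
      apply Subtype.ext
      apply Subtype.ext
      have h2 : ((H198.FC.Semi F (Fin n → F)).subtype.subgroupComap G a).1 =
        ((H198.FC.Semi F (Fin n → F)).subtype.subgroupComap G b).1 := by rw [hab]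
      exact h2
    exact Group.isSolvable_of_surjective
      ((Ph F (Fin n → F)).subgroupMap_surjective (G.comap (H198.FC.Semi F (Fin n → F)).subtype))
  obtain ⟨x, hd, hx, hS⟩ := hB F (Fin n → F) (clU n hF) (big_clU hF hn h32) SR h1 h2
  refine ⟨fun i => ((ofU (x i)).symm.toEquiv : Equiv.Perm (Fin n → F)), fun i => ?_, fun y hy hi => ?_⟩
  · refine ⟨(ofU (x i)).symm, ?_, fun v w => ?_, rfl⟩
    · have h3 : LinearMap.det ((ofU (x i) : (Fin n → F) ≃ₗ[F] (Fin n → F)) : (Fin n → F) →ₗ[F] (Fin n → F)) = 1 := by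
        rw [ofU_coe]; exact hd i
      have h4 := LinearEquiv.det_symm_mul_det (ofU (x i))
      rwa [h3, mul_one] at h4
    · have h5 := hx i ((ofU (x i)).symm v) ((ofU (x i)).symm w)
      have e1 : (x i : H198.FC.R F (Fin n → F)) ((ofU (x i)).symm v) = v := (ofU (x i)).apply_symm_apply v
      have e2 : (x i : H198.FC.R F (Fin n → F)) ((ofU (x i)).symm w) = w := (ofU (x i)).apply_symm_apply w
      rw [e1, e2] at h5
      exact h5.symm
  · have hy' := hle hy
    have h6 : Ph F (Fin n → F) ⟨y, hy'⟩ = 1 := by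
      apply hS
      · exact ⟨⟨y, hy'⟩, hy, rfl⟩
      · intro i
        rw [← Ph_lin, ← map_inv, ← map_mul, ← map_mul]
        refine ⟨_, ?_, rfl⟩
        exact hi i
    obtain ⟨a, ha⟩ := Ph_ker ⟨y, hy'⟩ h6
    refine ⟨a, ?_⟩
    have ha' : y = hm F (Fin n → F) a := ha
    rw [ha']
    ext v
    rfl

/-- **[B-AUTU]** -/
theorem stmtAutU (hB : ThmB.{0, 0}) : StmtAutU := by
  intro F _ _ n q hF hn h32
  apply H786.FC.fiveAut_of_allFive
  intro S hS
  refine five_of_geo (π := ClassicalGeometry.UnitAutBasic.pr n F q) ClassicalGeometry.UnitAutBasic.pr_surjective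
    (ρ := H177.MeetPSU.rho n F q) H177.MeetPSU.rho_injective (famU hF) H177.MeetPSU.semi_rho
    (fun y => H177.MeetPSU.uniq hF hn) (fun g => XU_su hF) (geoU hB hF hn h32) hS ?_
  intro β _
  obtain ⟨A, θ, rfl⟩ := ClassicalGeometry.PSUAutMain.exists_toAut hF hn h32 β
  exact ⟨H177.MeetPSU.yy A θ, H177.MeetPSU.semiU_yy A θ, H177.MeetPSU.ind_yy A θ⟩

end Cfsg.Agent.H412.FC
end

-- part: H184/FC/C3aCor
section
/-!
# S5764, L-C3a in the form of `H786/FC/Parts.lean` (helper184)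
-/

set_option autoImplicit false

namespace Cfsg.Agent.H184.FC

open Module Cfsg.Agent.H198.FC

universe u v

/-- **5360** -/
theorem stmtC3a : Cfsg.Agent.H786.FC.StmtC3a.{u, v} := by
  intro K _ _ V _ _ _ S hS _ _ E hE hp hSE h
  exact c3a Cfsg.Agent.H277.FC.stmtSN S hS E hE hp hSE h.1 h.2

end Cfsg.Agent.H184.FC
end

-- part: H716/FC/C6Four
section
/-!
# S5764: extraspecial type normalizers, `n` even, `n ≥ 4` (helper716)
-/

set_option autoImplicit false

namespace Cfsg.Agent.H716.FC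
open Cfsg.Agent.H198.FC Module

universe u v

/-- **`StmtC6` for even `n ≥ 4`** -/
theorem stmtC6_even : Cfsg.Agent.H786.FC.StmtC6On.{u, v} (fun n => 4 ≤ n ∧ Even n) := by
  intro K _ _ V _ _ _ S hSR _ hS A r a hD hn
  have hr : r = 2 := by
    have h1 : 2 ∣ r ^ a := by rw [← hD.2.2.1]; exact hn.2.two_dvd
    have h2 := Nat.prime_two.dvd_of_dvd_pow h1
    rcases (Nat.dvd_prime hD.1).1 h2 with h3 | h3
    · omega
    · exact h3.symm
  subst hr
  have ha : 2 ≤ a := by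
    by_contra hcon
    have h1 : a = 1 ∨ a = 0 := by omega
    have h2 := hD.2.2.1
    rcases h1 with rfl | rfl <;> rw [h2] at hn <;> norm_num at hn
  obtain ⟨x, hx1, hx⟩ := Dat.c6two hSR hD ha
  exact Cfsg.Agent.H563.FC.mtL hD hS x hx1 hx

/-- `StmtC6` for `n = 4` -/
theorem stmtC6_four : Cfsg.Agent.H786.FC.StmtC6On.{u, v} (fun n => n = 4) := by
  intro K _ _ V _ _ _ S hSR h2 hS A r a hD hn
  exact stmtC6_even K V S hSR h2 hS A r a hD ⟨by omega, by rw [hn]; decide⟩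

end Cfsg.Agent.H716.FC
end

-- part: H786/FC/Final
section
/-!
# S5764: the assembly  (helper786)
-/

set_option autoImplicit false

namespace Cfsg.Agent.H786.FC

open Cfsg.Agent.H198.FC

theorem stmtC6_of4 (h4 : StmtC6On.{0, 0} fun n => n = 4) : StmtC6.{0, 0} :=
  stmtC6_of_parts H173.FC.stmtC6On_two
    (fun K _ _ V _ _ _ S hS hn hsol A r a hA h => H710.FC.stmtC6_prime K V S hS hn hsol A r a hA
      (by rw [show Module.finrank K V = 3 from h]; exact ⟨by norm_num, by norm_num⟩))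
    h4
    (fun K _ _ V _ _ _ S hS hn hsol A r a hA h => by
      rcases h with h | h
      · exact H710.FC.stmtC6_prime K V S hS hn hsol A r a hA (by rw [h]; exact ⟨by norm_num, by norm_num⟩)
      · exact H716.FC.stmtC6_ge7 K V S hS hn hsol A r a hA (by show 7 ≤ Module.finrank K V; omega))
    (fun K _ _ V _ _ _ S hS hn hsol A r a hA h => H716.FC.stmtC6_ge7 K V S hS hn hsol A r a hA
      (by show 7 ≤ Module.finrank K V; rcases h with h | h <;> omega))

theorem on_or {c : Bool} {P Q : ℕ → Prop} (hP : StmtBC6On.{0, 0} c P) (hQ : StmtBC6On.{0, 0} c Q) :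
    StmtBC6On.{0, 0} c fun n => P n ∨ Q n := by
  intro K _ _ V _ _ _ b hk hb h
  rcases h with h | h
  · exact hP K V b hk hb h
  · exact hQ K V b hk hb h

theorem thmL : ThmL.{0, 0} :=
  H376.FC.thmL H466.FC.stmtS00 H886.FC.stmtClass H393.FC.stmtC2 (stmtC3_of_parts H184.FC.stmtC3a H245.FC.stmtC3b H245.FC.stmtC3c)
    H195.FC.stmtC4 (stmtC6_of4 H716.FC.stmtC6_four) H754.FC.stmtRed
    (H923.FC.stmtRedCor_of fun K _ _ V _ _ _ S => H10.FC.stmtG4 S)
    (H200.FC.stmtBridge_of H277.FC.stmtSN) H200.FC.stmtBridge2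

theorem bc6S4 : StmtBC6On.{0, 0} false fun n => n = 4 :=
  fun K _ _ V _ _ _ b hk hb hn S hS hsol A r a hA => H99.FC.bc6S4 b (hk.2 rfl) hn S hS hsol A r a hA

/-- assembly of the unitary / symplectic part -/
theorem thmB_of (h00 : StmtBS00.{0, 0}) (hcl : StmtBClassN.{0, 0}) (hpar : StmtBPar.{0, 0}) (h1 : StmtBC1.{0, 0})
    (h2 : StmtBC2.{0, 0}) (h2' : StmtBC2'.{0, 0}) (h3 : StmtBC3.{0, 0}) (h4 : StmtBC4n.{0, 0})
    (h6 : StmtBC6.{0, 0}) : ThmB.{0, 0} := by
  intro K _ _ V _ _ _ b hb S hS hsol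
  by_cases hIN : S ⊓ IN K V = ⊥
  · exact h00 K V b hb S hS hsol hIN
  rcases hcl K V b hb S hS hsol hIN with hW | ⟨hno, hW | ⟨k, d, e, hk, hd, he, ha, hr, hp⟩ | ⟨e, he, ha, hp⟩ |
    ⟨E, hE, hEp, hEa, hES⟩ | ⟨u', y, Φ, hu, hy, hne, hadj, hΦ⟩ | ⟨A, r, a, hA⟩⟩
  · exact hpar K V b hb S hS hsol hW
  · exact h1 K V b hb S hS hsol hno hW
  · exact h2 K V b hb S hS hsol k d e hk hd he ha hr hp
  · exact h2' K V b hb S hS hsol e he ha hp
  · exact h3 K V b hb S hS hsol E hE hEp hEa hES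
  · exact h4 K V b hb S hS hsol u' y Φ hu hy hne hadj hΦ
  · exact h6 K V b hb S hS hsol A r a hA

theorem thmB : ThmB.{0, 0} :=
  thmB_of H826.FC.stmtBS00 H886.FC.stmtBClassN H5.FC.stmtBPar (stmtBC1_of H499.FC.stmtBC1U H57.FC.stmtBC1S)
    (stmtBC2_of H324.FC.stmtBC2U1 (H499.FC.stmtBC2U2 H5.FC.stmtBPar) (H57.FC.stmtBC2S H5.FC.stmtBPar)) H886.FC.stmtBC2' (H510.BF.stmtBC3 H567.FC.bc3V)
    (stmtBC4n_of H920.FC.stmtBC4nK (H976.FC.stmtBC4nK_false_of' H5.FC.stmtBPar (stmtBC1_of H499.FC.stmtBC1U H57.FC.stmtBC1S))) (stmtBC6_of (on_or H10.U3.stmtBC6_three H412.FC.UFour.stmtBC6_U4) H563.FC.stmtBC6_U58 H214.FC.stmtBC6U9 bc6S4 H706.FC.stmtBC6_sp8 H214.FC.stmtBC6S16)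

theorem final {G : Type*} [Group G] [Finite G] (T : Subgroup G) (hT : T.Normal)
    (hTs : IsSimpleGroup ↥T) (hTc : ¬ IsMulCommutative ↥T)
    (hTcent : Subgroup.centralizer (T : Set G) = ⊥) (hsoc : Cfsg.IsPSL ↥T ∨ Cfsg.IsPSU ↥T ∨ Cfsg.IsPSp ↥T)
    (S : Subgroup G) (hS : Group.IsSolvable ↥S) :
    ∃ x₁ x₂ x₃ x₄ : G, S ⊓ (S).map (MulAut.conj x₁).toMonoidHom ⊓ (S).map (MulAut.conj x₂).toMonoidHom ⊓
      (S).map (MulAut.conj x₃).toMonoidHom ⊓ (S).map (MulAut.conj x₄).toMonoidHom = ⊥ := by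
  have hB := thmB
  exact stmtMain (H602.FC.stmtAutL thmL) (H412.FC.stmtAutU hB) (H214.FC.stmtAutSp hB (H319.FC.stmtSp4G hB)) T hT hTs
    hTc hTcent hsoc S hS

end Cfsg.Agent.H786.FC
end
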